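import Cfsg.Agent.EqLemmas

/-!
# Left-normed commutator values

* `Val n x`: `x` is a left-normed commutator value of length `n + 1`.
* `closure_val`: the values generate the term of the lower central series.
* `itc n u a`: the iterated commutator `[u, a, ..., a]`.
* `Coprimely n G`: a value centralizes every subgroup of coprime order that it normalizes.
-/

set_option autoImplicit false

open scoped commutatorElement
open Subgroup

namespace Cfsg.Agent.CommValue

universe u

variable {G : Type u} [Group G]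

/-- Left-normed commutator values of length `n + 1`. -/
def Val : ℕ → G → Prop
  | 0, _ => True
  | n + 1, x => ∃ a b : G, Val n a ∧ x = ⁅a, b⁆

/-- The iterated commutator `[u, a, ..., a]`. -/
def itc : ℕ → G → G → G
  | 0, u, _ => u
  | n + 1, u, a => ⁅itc n u a, a⁆

theorem val_itc (n : ℕ) (u a : G) : Val n (itc n u a) := by
  induction n with
  | zero => exact trivial
  | succ n ih => exact ⟨_, a, ih, rfl⟩

theorem Val.map {K : Type*} [Group K] (f : G →* K) : ∀ {n : ℕ} {x : G}, Val n x → Val n (f x)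
  | 0, _, _ => trivial
  | n + 1, x, ⟨a, b, ha, hx⟩ => ⟨f a, f b, ha.map f, by rw [hx, map_commutatorElement]⟩

theorem map_itc {K : Type*} [Group K] (f : G →* K) (n : ℕ) (u a : G) :
    f (itc n u a) = itc n (f u) (f a) := by
  induction n with
  | zero => rfl
  | succ n ih => simp only [itc, map_commutatorElement, ih]

theorem Val.lift {K : Type*} [Group K] (f : G →* K) (hf : Function.Surjective f) :
    ∀ {n : ℕ} {y : K}, Val n y → ∃ x : G, Val n x ∧ f x = y
  | 0, y, _ => ⟨(hf y).choose, trivial, (hf y).choose_spec⟩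
  | n + 1, y, ⟨a, b, ha, hy⟩ => by
    obtain ⟨a', ha', rfl⟩ := Val.lift f hf ha
    obtain ⟨b', rfl⟩ := hf b
    exact ⟨⁅a', b'⁆, ⟨a', b', ha', rfl⟩, by rw [hy, map_commutatorElement]⟩

theorem Val.coe {H : Subgroup G} {n : ℕ} {x : H} (h : Val n x) : Val n (x : G) := h.map H.subtype

theorem Val.conj {n : ℕ} {x : G} (h : Val n x) (g : G) : Val n (g * x * g⁻¹) :=
  h.map (MulAut.conj g).toMonoidHom

theorem val_iff_ofFn (n : ℕ) (x : G) : Val n x ↔ ∃ f : Fin (n + 1) → G,
    x = ((List.ofFn f).tail).foldl (fun a b => a * b * a⁻¹ * b⁻¹) (f 0) := by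
  induction n generalizing x with
  | zero =>
    refine ⟨fun _ => ⟨fun _ => x, by simp⟩, fun _ => trivial⟩
  | succ n ih =>
    have e : ∀ f : Fin (n + 2) → G, ((List.ofFn f).tail).foldl (fun a b => a * b * a⁻¹ * b⁻¹) (f 0) =
        ⁅((List.ofFn (fun i : Fin (n + 1) => f i.castSucc)).tail).foldl (fun a b => a * b * a⁻¹ * b⁻¹) (f 0),
          f (Fin.last (n + 1))⁆ := by
      intro f
      rw [List.ofFn_succ' (f := f), List.concat_eq_append, List.tail_append_of_ne_nil (by simp),
        List.foldl_append]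
      simp [commutatorElement_def]
    constructor
    · rintro ⟨a, b, ha, rfl⟩
      obtain ⟨f, rfl⟩ := (ih a).1 ha
      refine ⟨Fin.snoc f b, ?_⟩
      rw [e]
      simp only [Fin.snoc_castSucc, Fin.snoc_last]
      rw [show (Fin.snoc (α := fun _ => G) f b) 0 = f 0 from Fin.snoc_castSucc (α := fun _ => G) (i := 0) ..]
    · rintro ⟨f, rfl⟩
      rw [e]
      exact ⟨_, _, (ih _).2 ⟨fun i => f i.castSucc, rfl⟩, rfl⟩

theorem val_mem_lcs : ∀ {n : ℕ} {x : G}, Val n x → x ∈ (⊤ : Subgroup G).lowerCentralSeries n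
  | 0, x, _ => by simp
  | n + 1, x, ⟨a, b, ha, hx⟩ => by
    rw [hx, Subgroup.lowerCentralSeries_succ]
    exact commutator_mem_commutator (val_mem_lcs ha) (mem_top b)

/-- The values generate the term of the lower central series. -/
theorem closure_val (n : ℕ) : closure {x : G | Val n x} = (⊤ : Subgroup G).lowerCentralSeries n := by
  refine le_antisymm ((closure_le _).2 fun x hx => val_mem_lcs hx) ?_
  induction n with
  | zero => exact fun x _ => subset_closure trivial
  | succ n ih =>
    rw [Subgroup.lowerCentralSeries_succ]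
    refine (commutator_mono ih le_rfl).trans ?_
    rw [commutator_le]
    intro a ha g _
    set W := closure {x : G | Val (n + 1) x} with hW
    have hWn : W.Normal := by
      refine ⟨fun w hw g => ?_⟩
      have h1 : W ≤ W.comap (MulAut.conj g).toMonoidHom :=
        (closure_le _).2 fun x hx => subset_closure (hx.conj g)
      exact h1 hw
    induction ha using closure_induction with
    | mem v hv => exact subset_closure ⟨v, g, hv, rfl⟩
    | one => simp
    | mul v w _ _ hv hw =>
      rw [show ⁅v * w, g⁆ = v * ⁅w, g⁆ * v⁻¹ * ⁅v, g⁆ by simp [commutatorElement_def, mul_assoc]]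
      exact mul_mem (hWn.conj_mem _ hw v) hv
    | inv v _ hv =>
      rw [show ⁅v⁻¹, g⁆ = v⁻¹ * ⁅v, g⁆⁻¹ * v⁻¹⁻¹ by simp [commutatorElement_def, mul_assoc]]
      exact hWn.conj_mem _ (inv_mem hv) v⁻¹

theorem map_lcs {K : Type*} [Group K] (f : G →* K) (hf : Function.Surjective f) (n : ℕ) :
    ((⊤ : Subgroup G).lowerCentralSeries n).map f = (⊤ : Subgroup K).lowerCentralSeries n := by
  rw [← closure_val, ← closure_val, MonoidHom.map_closure]
  congr 1
  ext y
  constructor
  · rintro ⟨x, hx, rfl⟩; exact hx.map f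
  · intro hy
    obtain ⟨x, hx, rfl⟩ := Val.lift f hf hy
    exact ⟨x, hx, rfl⟩

theorem eq_one_of_pow_coprime {Q : Subgroup G} {w : G} (hw : w ∈ Q) {m : ℕ} (hm : w ^ m = 1)
    (hcop : (Nat.card Q).Coprime m) : w = 1 := by
  refine orderOf_eq_one_iff.1 (Nat.eq_one_of_dvd_one (hcop ▸ Nat.dvd_gcd ?_ (orderOf_dvd_of_pow_eq_one hm)))
  exact (orderOf_coe (⟨w, hw⟩ : Q)) ▸ orderOf_dvd_natCard _

theorem itc_mem {Q : Subgroup G} {a : G} (ha : ∀ q ∈ Q, a * q * a⁻¹ ∈ Q) {u : G} (hu : u ∈ Q) :
    ∀ n, itc n u a ∈ Q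
  | 0 => hu
  | n + 1 => by
    have h := itc_mem ha hu n
    show ⁅itc n u a, a⁆ ∈ Q
    rw [commutatorElement_def, mul_assoc (itc n u a), mul_assoc (itc n u a)]
    exact Q.mul_mem h (ha _ (Q.inv_mem h))

/-- Coprime action: a trivial iterated commutator is a trivial commutator. -/
theorem commute_of_itc {Q : Subgroup G} {a : G} (ha : ∀ q ∈ Q, a * q * a⁻¹ ∈ Q)
    (hcop : (Nat.card Q).Coprime (orderOf a)) {u : G} (hu : u ∈ Q) :
    ∀ {n : ℕ}, itc n u a = 1 → Commute u a
  | 0, h => by simp only [itc] at h; rw [h]; exact Commute.one_left a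
  | 1, h => commutatorElement_eq_one_iff_commute.1 h
  | n + 2, h => by
    refine commute_of_itc ha hcop hu (n := n + 1) ?_
    set w := itc (n + 1) u a with hwdef
    have hc : Commute w a := commutatorElement_eq_one_iff_commute.1 h
    have hwa : (w * a) ^ orderOf a = 1 := by
      rw [hwdef]
      show (⁅itc n u a, a⁆ * a) ^ orderOf a = 1
      rw [commutatorElement_def, inv_mul_cancel_right, conj_pow, pow_orderOf_eq_one]
      simp
    rw [hc.mul_pow, pow_orderOf_eq_one, mul_one] at hwa
    exact eq_one_of_pow_coprime (itc_mem ha hu (n + 1)) hwa hcop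

/-- A value centralizes the subgroups of coprime order that it normalizes. -/
def Coprimely (n : ℕ) (G : Type u) [Group G] : Prop :=
  ∀ x : G, Val n x → ∀ Q : Subgroup G, (∀ q ∈ Q, x * q * x⁻¹ ∈ Q) → (Nat.card Q).Coprime (orderOf x) →
    ∀ q ∈ Q, Commute q x

theorem Coprimely.subgroup {n : ℕ} (h : Coprimely n G) (H : Subgroup G) : Coprimely n H := by
  intro x hx Q hQ hcop q hq
  have h1 := h (x : G) hx.coe (Q.map H.subtype)
    (by rintro _ ⟨z, hz, rfl⟩; exact ⟨_, hQ z hz, rfl⟩)
    (by rw [card_map_of_injective H.subtype_injective, orderOf_coe]; exact hcop) (q : G) ⟨q, hq, rfl⟩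
  exact Subtype.ext h1.eq

theorem coprimely_of_orders [Finite G] (n : ℕ)
    (h : ∀ x y : G, Val n x → Val n y → (orderOf x).Coprime (orderOf y) →
      (∀ r : ℕ, r.Prime → r ∣ orderOf x * orderOf y → r ∣ orderOf (x * y)) ∨
        orderOf x * orderOf y ≤ orderOf (x * y)) : Coprimely n G := by
  intro x hx Q hQ hcop q hq
  obtain ⟨m, hm1, hval⟩ : ∃ m, Val n (itc (m + 1) q x) ∧ True := by
    rcases Nat.eq_zero_or_pos n with rfl | hn
    · exact ⟨0, trivial, trivial⟩
    · exact ⟨n - 1, by rw [Nat.sub_add_cancel hn]; exact val_itc n q x, trivial⟩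
  set y := itc (m + 1) q x with hy
  have hyQ : y ∈ Q := itc_mem hQ hq _
  have hyd : orderOf y ∣ Nat.card Q := (orderOf_coe (⟨y, hyQ⟩ : Q)) ▸ orderOf_dvd_natCard _
  have hcop' : (orderOf y).Coprime (orderOf x) := Nat.Coprime.coprime_dvd_left hyd hcop
  have hord : orderOf (y * x) = orderOf x := by
    rw [hy]
    show orderOf (⁅itc m q x, x⁆ * x) = _
    rw [commutatorElement_def, inv_mul_cancel_right]
    exact (MulAut.conj (itc m q x)).orderOf_eq x
  have hy1 : y = 1 := by
    rw [← orderOf_eq_one_iff]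
    rcases h y x hm1 hx hcop' with h1 | h1
    · by_contra hne
      obtain ⟨r, hr, hrd⟩ := Nat.exists_prime_and_dvd hne
      have h2 := h1 r hr (hrd.mul_right _)
      rw [hord] at h2
      exact hr.ne_one (Nat.eq_one_of_dvd_one (hcop' ▸ Nat.dvd_gcd hrd h2))
    · rw [hord] at h1
      have := (orderOf_pos y)
      have := (orderOf_pos x)
      nlinarith
  exact commute_of_itc hQ hcop hq hy1

end Cfsg.Agent.CommValue
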