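import Cfsg.Agent.Lib.CommValue.Soluble
import Cfsg.Agent.Lib.Transfer.Alperin
import Cfsg.Agent.S0215
import Cfsg.Agent.S0200

/-!
# Groups in which values centralize coprime subgroups have a nilpotent term of the lower central series

The non-soluble case is reduced to the solubility of groups of odd order, taken as a hypothesis.

`isNilpotent_lcs_of_even`.
-/

set_option autoImplicit false

open scoped commutatorElement Pointwise
open Subgroup

namespace Cfsg.Agent.CommValue

universe u

theorem itc_inverted {G : Type u} [Group G] {z t : G} (h : t * z * t⁻¹ = z⁻¹) (ht : t * t = 1) :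
    ∀ n : ℕ, itc n z t = z ^ 2 ^ n
  | 0 => by simp [itc]
  | n + 1 => by
    show ⁅itc n z t, t⁆ = _
    rw [itc_inverted h ht n, commutatorElement_def]
    have h1 : t * (z ^ 2 ^ n)⁻¹ * t⁻¹ = z ^ 2 ^ n := by
      rw [← inv_pow, ← conj_pow, show t * z⁻¹ * t⁻¹ = (t * z * t⁻¹)⁻¹ by group, h, inv_inv]
    calc z ^ 2 ^ n * t * (z ^ 2 ^ n)⁻¹ * t⁻¹ = z ^ 2 ^ n * (t * (z ^ 2 ^ n)⁻¹ * t⁻¹) := by group
      _ = z ^ 2 ^ (n + 1) := by rw [h1, ← pow_add]; congr 1; rw [pow_succ]; ring

/-- In a simple non-abelian group some element of odd order acts on an elementary abelian 2-group non-trivially. -/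
theorem exists_odd_nontrivial_action (Q : Type u) [Group Q] [Finite Q] (hns : ¬ Group.IsSolvable Q)
    (hsimp : ∀ W : Subgroup Q, W.Normal → W = ⊥ ∨ W = ⊤) (h2 : 2 ∣ Nat.card Q) :
    ∃ E : Subgroup Q, (∀ x ∈ E, ∀ y ∈ E, x * y = y * x) ∧ (∀ x ∈ E, x ^ 2 = 1) ∧
      ∃ a ∈ normalizer (E : Set Q), Odd (orderOf a) ∧ ∃ e ∈ E, ¬ Commute e a := by
  by_contra hno
  push Not at hno
  have := Fact.mk Nat.prime_two
  obtain ⟨P⟩ := (inferInstance : Nonempty (Sylow 2 Q))
  have hPne : (P : Subgroup Q) ≠ ⊥ := P.ne_bot_of_dvd_card h2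
  have : Nontrivial (P : Subgroup Q) := (nontrivial_iff_ne_bot _).2 hPne
  obtain ⟨i, hi⟩ := IsPGroup.iff_card.1 (P.2.to_subgroup (center (P : Subgroup Q)))
  have hi0 : i ≠ 0 := fun h0 => by
    have := P.2.center_nontrivial
    have h1 : 1 < Nat.card (center (P : Subgroup Q)) := Finite.one_lt_card
    rw [hi, h0] at h1; simp at h1
  obtain ⟨u', hu'⟩ := exists_prime_orderOf_dvd_card' (G := center (P : Subgroup Q)) 2 (hi ▸ dvd_pow_self 2 hi0)
  set u : Q := ((u' : (P : Subgroup Q)) : Q) with hu
  have huP : u ∈ (P : Subgroup Q) := (u' : (P : Subgroup Q)).2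
  have huo : orderOf u = 2 := by rw [hu, orderOf_coe, orderOf_coe, hu']
  have huc : ∀ w ∈ (P : Subgroup Q), w * u = u * w := fun w hw =>
    congrArg Subtype.val (mem_center_iff.1 u'.2 ⟨w, hw⟩)
  -- the fusion steps fix `u`
  have hstep : ∀ R : Subgroup Q, Transfer.IsFullyNormalized 2 (P : Subgroup Q) R → u ∈ R →
      ∀ g ∈ normalizer (R : Set Q), g * u * g⁻¹ = u := by
    intro R hR huR g hg
    let E : Subgroup Q :=
      { carrier := {x | x ∈ R ∧ x ^ 2 = 1 ∧ ∀ w ∈ R, x * w = w * x}
        one_mem' := ⟨one_mem _, one_pow _, fun w _ => by simp⟩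
        mul_mem' := fun {a b} ha hb => ⟨mul_mem ha.1 hb.1, by
          rw [(show Commute a b from ha.2.2 b hb.1).mul_pow, ha.2.1, hb.2.1, one_mul],
          fun w hw => ((show Commute a w from ha.2.2 w hw).mul_left (hb.2.2 w hw)).eq⟩
        inv_mem' := fun {a} ha => ⟨inv_mem ha.1, by rw [inv_pow, ha.2.1, inv_one],
          fun w hw => ((show Commute a w from ha.2.2 w hw).inv_left).eq⟩ }
    have huE : u ∈ E := ⟨huR, by rw [← huo, pow_orderOf_eq_one], fun w hw => (huc w (hR.1 hw)).symm⟩
    have hNE : ∀ a ∈ normalizer (R : Set Q), a ∈ normalizer (E : Set Q) := by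
      have key : ∀ a ∈ normalizer (R : Set Q), ∀ x ∈ E, a * x * a⁻¹ ∈ E := fun a ha x hx =>
        ⟨(mem_normalizer_iff.1 ha x).1 hx.1, by rw [conj_pow, hx.2.1, mul_one, mul_inv_cancel], fun w hw => by
          have h1 : a⁻¹ * w * a ∈ R := (mem_normalizer_iff.1 ha _).2 (by simpa [mul_assoc] using hw)
          calc a * x * a⁻¹ * w = a * (x * (a⁻¹ * w * a)) * a⁻¹ := by group
            _ = a * ((a⁻¹ * w * a) * x) * a⁻¹ := by rw [hx.2.2 _ h1]
            _ = w * (a * x * a⁻¹) := by group⟩
      intro a ha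
      refine mem_normalizer_iff.2 fun x => ⟨key a ha x, fun hx => ?_⟩
      simpa [mul_assoc] using key a⁻¹ (inv_mem ha) _ hx
    set M := normalizer (R : Set Q) with hM
    have hodd : ∀ a ∈ M, Odd (orderOf a) → a ∈ centralizer ({u} : Set Q) := fun a ha hao =>
      mem_centralizer_singleton_iff.2
        (hno E (fun x hx y hy => hx.2.2 y hy.1) (fun x hx => hx.2.1) a (hNE a ha) hao u huE).eq.symm
    have hle : M ≤ centralizer ({u} : Set Q) := by
      set C := (centralizer ({u} : Set Q)).subgroupOf M with hC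
      have h1 : C.index = 1 := by
        by_contra hne
        obtain ⟨q, hq, hqd⟩ := Nat.exists_prime_and_dvd hne
        by_cases hq2 : q = 2
        · subst hq2
          refine hR.2 (hqd.trans ?_)
          refine index_dvd_of_le fun x hx => ?_
          exact mem_centralizer_singleton_iff.2 (huc _ (mem_subgroupOf.1 hx).1)
        · have := Fact.mk hq
          obtain ⟨S⟩ := (inferInstance : Nonempty (Sylow q M))
          refine S.not_dvd_index (hqd.trans (index_dvd_of_le fun x hx => ?_))
          obtain ⟨k, hk⟩ := IsPGroup.iff_orderOf.1 S.2 ⟨x, hx⟩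
          rw [Subgroup.orderOf_mk] at hk
          exact hodd x x.2 (by rw [orderOf_coe, hk]; exact (hq.odd_of_ne_two hq2).pow)
      exact subgroupOf_eq_top.1 (index_eq_one.1 h1)
    rw [mem_centralizer_singleton_iff.1 (hle hg), mul_inv_cancel_right]
  have hchain : ∀ (A : Subgroup Q) (g : Q), Transfer.FusionChain 2 (P : Subgroup Q) A g → u ∈ A →
      g * u * g⁻¹ = u := by
    intro A g h
    induction h with
    | step h1 h2 h3 => exact fun hA => hstep _ h2 (h1 hA) _ h3
    | @trans A g k h1 h2 ih1 ih2 =>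
      intro hA
      have e1 := ih1 hA
      have e2 := ih2 ⟨u, hA, e1⟩
      calc k * g * u * (k * g)⁻¹ = k * (g * u * g⁻¹) * k⁻¹ := by group
        _ = u := by rw [e1, e2]
  have hiso : ∀ g : Q, g * u * g⁻¹ ∈ P → g * u * g⁻¹ = u := fun g hg =>
    hchain _ g (Transfer.fusionChain P (zpowers_le.2 huP) (by
      rw [MonoidHom.map_zpowers, zpowers_le]; exact hg)) (mem_zpowers u)
  obtain ⟨N, hNn, hNodd, hN⟩ := S0215.result P u huo huP hiso
  have hu1 : u ≠ 1 := fun e => by rw [e, orderOf_one] at huo; exact absurd huo (by norm_num)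
  rcases hsimp N hNn with rfl | rfl
  · have hZ : u ∈ center Q := mem_center_iff.2 fun g => by
      have := hN g
      rw [mem_bot, mul_inv_eq_one, mul_inv_eq_iff_eq_mul] at this
      exact this.symm
    rcases hsimp (center Q) inferInstance with h | h
    · exact hu1 (mem_bot.1 (h ▸ hZ))
    · exact hns (Group.isSolvable_of_comm fun a b => (mem_center_iff.1 (h ▸ mem_top b : b ∈ center Q) a))
  · rw [card_top] at hNodd
    exact Nat.not_even_iff_odd.2 hNodd (even_iff_two_dvd.2 h2)

theorem solvable_of_normal_cover {G : Type u} [Group G] {N M : Subgroup G} [N.Normal]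
    (hN : Group.IsSolvable N) (hM : Group.IsSolvable M) (h : N ⊔ M = ⊤) : Group.IsSolvable G := by
  have hf : Function.Surjective ((QuotientGroup.mk' N).comp M.subtype) := by
    intro y
    obtain ⟨y, rfl⟩ := QuotientGroup.mk'_surjective N y
    obtain ⟨n, hn, m, hm, rfl⟩ := mem_sup_of_normal_left.1 (h.symm ▸ mem_top y : y ∈ N ⊔ M)
    refine ⟨⟨m, hm⟩, ?_⟩
    show QuotientGroup.mk' N m = QuotientGroup.mk' N (n * m)
    rw [map_mul, show QuotientGroup.mk' N n = 1 from (QuotientGroup.eq_one_iff n).2 hn, one_mul]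
  have : Group.IsSolvable (G ⧸ N) := Group.isSolvable_of_surjective hf
  exact (Group.isSolvable_iff_subgroup_quotient N).2 ⟨hN, this⟩

variable (n : ℕ)

theorem isNilpotent_lcs_of_even
    (hodd : ∀ (Q : Type u) [Group Q] [Finite Q], ¬ 2 ∣ Nat.card Q → Group.IsSolvable Q) : ∀ (m : ℕ) (G : Type u) [Group G] [Finite G], Nat.card G = m → Coprimely n G →
    Group.IsNilpotent ((⊤ : Subgroup G).lowerCentralSeries n) := by
  intro m
  induction m using Nat.strong_induction_on with
  | _ m ih =>
    intro G _ _ hm hco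
    by_cases hsol : Group.IsSolvable G
    · exact isNilpotent_lcs_of_solvable n _ G rfl hsol hco
    exfalso
    have hnil : ∀ H : Subgroup G, H ≠ ⊤ → Group.IsNilpotent ((⊤ : Subgroup H).lowerCentralSeries n) := by
      intro H hH
      refine ih _ ?_ H rfl (hco.subgroup H)
      rw [← hm]
      exact lt_of_le_of_ne (Nat.le_of_dvd Nat.card_pos (card_subgroup_dvd_card H))
        (fun e => hH (eq_top_of_card_eq _ e))
    have hsolH : ∀ H : Subgroup G, H ≠ ⊤ → Group.IsSolvable H := by
      intro H hH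
      have h1 := hnil H hH
      set γ := (⊤ : Subgroup H).lowerCentralSeries n
      have h2 : Group.IsNilpotent (H ⧸ γ) := by
        have h0 : Group.IsNilpotent (⊤ : Subgroup (H ⧸ γ)) := by
          refine (Subgroup.isNilpotent_iff_lowerCentralSeries _).2 ⟨n, ?_⟩
          rw [← map_lcs (QuotientGroup.mk' γ) (QuotientGroup.mk'_surjective γ)]
          exact QuotientGroup.map_mk'_self γ
        exact nilpotent_of_injective (topEquiv (G := H ⧸ γ)).symm.toMonoidHom (MulEquiv.injective _)
      exact (Group.isSolvable_iff_subgroup_quotient γ).2 ⟨inferInstance, inferInstance⟩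
    set Φ := frattini G with hΦ
    have hnorm : ∀ N : Subgroup G, N.Normal → N ≠ ⊤ → N ≤ Φ := by
      intro N hN hNt
      refine le_iInf₂ fun M hM => ?_
      by_contra hle
      exact hsol (solvable_of_normal_cover (hsolH N hNt) (hsolH M hM.1)
        (by rw [sup_comm]; exact hM.2 _ (left_lt_sup.2 hle)))
    set π := QuotientGroup.mk' Φ with hπ
    have hπs : Function.Surjective π := QuotientGroup.mk'_surjective Φ
    have hΦnil : Group.IsNilpotent Φ := frattini_nilpotent
    have hQns : ¬ Group.IsSolvable (G ⧸ Φ) := fun h =>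
      hsol ((Group.isSolvable_iff_subgroup_quotient Φ).2 ⟨inferInstance, h⟩)
    have hQsimp : ∀ W : Subgroup (G ⧸ Φ), W.Normal → W = ⊥ ∨ W = ⊤ := by
      intro W hW
      by_cases ht : W.comap π = ⊤
      · right
        rw [← map_comap_eq_self_of_surjective hπs W, ht, Subgroup.map_top_of_surjective π hπs]
      · left
        rw [← map_comap_eq_self_of_surjective hπs W, eq_bot_iff]
        exact (map_mono (hnorm _ (hW.comap π) ht)).trans (by rw [hπ, QuotientGroup.map_mk'_self])
    -- proper subgroups of the quotient are soluble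
    have hpre : ∀ X : Subgroup (G ⧸ Φ), Group.IsSolvable X → X.comap π ≠ ⊤ := fun X hX e => hQns (by
      have : X = ⊤ := by rw [← map_comap_eq_self_of_surjective hπs X, e, Subgroup.map_top_of_surjective π hπs]
      subst this
      exact Group.isSolvable_of_surjective (f := (topEquiv (G := G ⧸ Φ)).toMonoidHom) (MulEquiv.surjective _))
    -- a 2-value with an involution as image
    have heven : 2 ∣ Nat.card (G ⧸ Φ) := not_not.1 fun h => hQns (hodd (G ⧸ Φ) h)
    obtain ⟨E, hEc, hE2, a, haE, hao, e, heE, hea⟩ := exists_odd_nontrivial_action (G ⧸ Φ) hQns hQsimp heven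
    obtain ⟨a, rfl⟩ := hπs a
    set W := E.comap π with hW
    have haW : a ∈ normalizer (W : Set G) := by
      rw [mem_normalizer_iff]
      intro x
      rw [hW, mem_comap, mem_comap, map_mul, map_mul, map_inv]
      exact mem_normalizer_iff.1 haE (π x)
    have := Fact.mk Nat.prime_two
    obtain ⟨S⟩ : Nonempty (Sylow 2 W) := inferInstance
    set S₀ : Subgroup G := (S : Subgroup W).map W.subtype with hS₀
    -- adjust `a`
    obtain ⟨w, hw, ha'⟩ : ∃ w ∈ W, w * a ∈ normalizer (S₀ : Set G) := by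
      set H₀ := normalizer (W : Set G)
      have : (W.subgroupOf H₀).Normal := normal_subgroupOf_of_le_normalizer le_rfl
      let S' : Sylow 2 (W.subgroupOf H₀) :=
        S.mapSurjective (f := (subgroupOfEquivOfLe (le_normalizer : W ≤ H₀)).symm.toMonoidHom) (MulEquiv.surjective _)
      have hS' : ((S' : Subgroup (W.subgroupOf H₀)).map (W.subgroupOf H₀).subtype).map H₀.subtype = S₀ := by
        rw [hS₀, map_map]
        show ((S : Subgroup W).map _).map _ = _
        rw [map_map]
        congr 1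
      obtain ⟨k, hk, x, hx, hkx⟩ := mem_sup_of_normal_right.1
        ((Sylow.normalizer_sup_eq_top S').symm ▸ mem_top (⟨a, haW⟩ : H₀) : (⟨a, haW⟩ : H₀) ∈
          normalizer (((S' : Subgroup (W.subgroupOf H₀)).map (W.subgroupOf H₀).subtype : Subgroup H₀) : Set H₀) ⊔
            W.subgroupOf H₀)
      have hka : (k : G) = a * (x : G)⁻¹ := by
        have := congrArg Subtype.val hkx
        rw [← show (k : G) * (x : G) = a from this, mul_inv_cancel_right]
      refine ⟨a * (x : G)⁻¹ * a⁻¹, (mem_normalizer_iff.1 haW _).1 (inv_mem hx), ?_⟩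
      rw [inv_mul_cancel_right, ← hka, ← hS']
      exact le_normalizer_map _ ⟨k, hk, rfl⟩
    set a' := w * a with ha'def
    have hS₀W : S₀ ≤ W := map_subtype_le _
    obtain ⟨s, hs, hse⟩ : ∃ s ∈ S₀, π s = e := by
      obtain ⟨x, hx⟩ := hπs e
      let φ : W →* E := (π.comp W.subtype).codRestrict E fun s => s.2
      have hφ : Function.Surjective φ := by
        rintro ⟨v, hv⟩
        obtain ⟨g, rfl⟩ := hπs v
        exact ⟨⟨g, hv⟩, rfl⟩
      have h1 := (S.mapSurjective hφ).is_maximal' (Q := (⊤ : Subgroup E))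
        (fun v => ⟨1, Subtype.ext (Subtype.ext (by simpa using hE2 _ v.1.2))⟩) le_top
      obtain ⟨s, hs, he⟩ := h1.le (mem_top (⟨e, heE⟩ : E))
      exact ⟨s, ⟨s, hs, rfl⟩, congrArg Subtype.val he⟩
    have hnormE : ∀ q ∈ E, π a * q * (π a)⁻¹ ∈ E := fun q hq => (mem_normalizer_iff.1 haE q).1 hq
    have hEcop : (Nat.card E).Coprime (orderOf (π a)) := by
      obtain ⟨k, hk⟩ := IsPGroup.iff_card.1 (show IsPGroup 2 E from fun v => ⟨1, Subtype.ext (by simpa using hE2 v v.2)⟩)
      rw [hk]
      exact Nat.Coprime.pow_left _ (Nat.coprime_two_left.2 hao)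
    have himg : ∀ k, itc k e (π a') = itc k e (π a) := by
      intro k
      induction k with
      | zero => rfl
      | succ k ihk =>
        have hmem : itc k e (π a) ∈ E := itc_mem hnormE heE k
        show ⁅itc k e (π a'), π a'⁆ = ⁅itc k e (π a), π a⁆
        rw [ihk, ha'def, map_mul]
        have hwE : π w ∈ E := hw
        have h1 : π a * (itc k e (π a))⁻¹ * (π a)⁻¹ ∈ E := hnormE _ (inv_mem hmem)
        calc ⁅itc k e (π a), π w * π a⁆
            = itc k e (π a) * (π w * (π a * (itc k e (π a))⁻¹ * (π a)⁻¹) * (π w)⁻¹) := by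
              rw [commutatorElement_def]; group
          _ = ⁅itc k e (π a), π a⁆ := by
              rw [hEc _ hwE _ h1, mul_inv_cancel_right, commutatorElement_def]; group
    set y := itc n s a' with hy
    set t := π y with ht
    have htE : t = itc n e (π a) := by rw [ht, hy, map_itc, hse, himg]
    have hyS : y ∈ S₀ := itc_mem (fun q hq => (mem_normalizer_iff.1 ha' q).1 hq) hs n
    have ht2 : t ^ 2 = 1 := hE2 _ (htE ▸ itc_mem hnormE heE n)
    have ht1 : t ≠ 1 := fun h1 => hea (commute_of_itc hnormE hEcop heE (n := n) (htE ▸ h1))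
    have hto : orderOf t = 2 := orderOf_eq_prime ht2 ht1
    obtain ⟨z, hz1, hzo, hzt⟩ := S0200.result t hto fun N hN hN2 htN => by
      rcases hQsimp N hN with rfl | rfl
      · exact ht1 (mem_bot.1 htN)
      · have := hN2.isNilpotent
        exact hQns (Group.isSolvable_of_surjective (f := (topEquiv (G := G ⧸ Φ)).toMonoidHom) (MulEquiv.surjective _))
    have htt : t * t = 1 := by rw [← pow_two, ht2]
    -- the preimage of the dihedral group
    set X := zpowers z ⊔ zpowers t with hX
    have hXsol : Group.IsSolvable X := by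
      have hn : zpowers t ≤ normalizer (zpowers z : Set (G ⧸ Φ)) := by
        rw [zpowers_le, mem_normalizer_iff]
        intro w
        constructor
        · rintro ⟨i, rfl⟩
          exact ⟨-i, by simp only [zpow_neg, ← conj_zpow, hzt, inv_zpow]⟩
        · rintro ⟨i, hi⟩
          refine ⟨-i, ?_⟩
          have hw' : w = t⁻¹ * z ^ i * t⁻¹⁻¹ := by rw [show z ^ i = t * w * t⁻¹ from hi]; group
          rw [hw', ← conj_zpow]
          have : t⁻¹ = t := inv_eq_of_mul_eq_one_right htt
          rw [inv_inv, this]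
          simp only [zpow_neg]
          rw [show t * z * t = t * z * t⁻¹ by rw [this], hzt, inv_zpow]
      have hnX : ((zpowers z).subgroupOf X).Normal :=
        normal_subgroupOf_of_le_normalizer (sup_le le_normalizer hn)
      refine solvable_of_normal_cover (N := (zpowers z).subgroupOf X) (M := (zpowers t).subgroupOf X)
        (Group.isSolvable_of_surjective (f := (subgroupOfEquivOfLe (le_sup_left : zpowers z ≤ X)).symm.toMonoidHom)
          (MulEquiv.surjective _))
        (Group.isSolvable_of_surjective (f := (subgroupOfEquivOfLe (le_sup_right : zpowers t ≤ X)).symm.toMonoidHom)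
          (MulEquiv.surjective _)) ?_
      rw [← subgroupOf_sup le_sup_left le_sup_right, subgroupOf_eq_top]
    set H := X.comap π with hH
    have hHne : H ≠ ⊤ := hpre X hXsol
    have hyH : y ∈ H := mem_comap.2 (mem_sup_right (mem_zpowers t))
    obtain ⟨z₀, rfl⟩ := hπs z
    have hzH : z₀ ∈ H := mem_comap.2 (mem_sup_left (mem_zpowers _))
    set γ := (⊤ : Subgroup H).lowerCentralSeries n
    have hγ : Group.IsNilpotent γ := hnil H hHne
    set v : H := itc n ⟨z₀, hzH⟩ ⟨y, hyH⟩ with hv
    have hvγ : v ∈ γ := val_mem_lcs (val_itc n _ _)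
    have hvz : (π.comp H.subtype) v = π z₀ ^ 2 ^ n := by
      rw [hv, map_itc]; exact itc_inverted hzt htt n
    have hyval : Val n y := val_itc n _ _
    -- `t` commutes with the primary parts of the image of `v`
    have hcomm : π z₀ ^ 2 ^ n ∈ centralizer ({t} : Set (G ⧸ Φ)) := by
      refine Transfer.mem_of_forall_primePow fun q hq w hw ⟨k, hk⟩ => ?_
      have hwodd : Odd (orderOf w) := by
        obtain ⟨i, rfl⟩ := mem_zpowers_iff.1 hw
        have h1 : orderOf ((π z₀ ^ 2 ^ n) ^ i) ∣ orderOf (π z₀) :=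
          (orderOf_dvd_of_mem_zpowers (zpow_mem (pow_mem (mem_zpowers _) _) i))
        exact hzo.of_dvd_nat h1
      rw [← hvz] at hw
      obtain ⟨i, hi⟩ := mem_zpowers_iff.1 hw
      rw [← map_zpow] at hi
      obtain ⟨j, hj, l, hl⟩ := exists_primary_lift (π.comp H.subtype) hq (x := v ^ i) (hi.symm ▸ hk)
      rw [← hi, ← hj]
      rcases Nat.eq_zero_or_pos k with rfl | hkpos
      · rw [hj, hi, show w = 1 from orderOf_eq_one_iff.1 (by simpa using hk)]; exact one_mem _
      have hq2 : q ≠ 2 := fun e2 => by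
        rw [hk, e2] at hwodd
        exact Nat.not_even_iff_odd.2 hwodd ((Nat.even_pow).2 ⟨even_two, hkpos.ne'⟩)
      set u := (v ^ i) ^ j
      have huγ : u ∈ γ := pow_mem (zpow_mem hvγ i) j
      have := Fact.mk hq
      obtain ⟨U, hU⟩ := (IsPGroup.of_card (p := q) (G := zpowers (⟨u, huγ⟩ : γ)) (n := l)
        (by rw [Nat.card_zpowers, Subgroup.orderOf_mk, hl])).exists_le_sylow
      set U₀ := ((U : Subgroup γ).map γ.subtype).map H.subtype with hU₀
      have hUn := sylow_normal_of_nilpotent hγ U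
      obtain ⟨c, hc⟩ := IsPGroup.iff_card.1 ((U.2.map γ.subtype).map H.subtype)
      obtain ⟨d, hd⟩ := IsPGroup.iff_orderOf.1 (S.2.map W.subtype) ⟨y, hyS⟩
      rw [Subgroup.orderOf_mk] at hd
      have h1 := hco y hyval U₀ (by
        rintro _ ⟨x, hx, rfl⟩
        exact ⟨_, hUn.conj_mem x hx ⟨y, hyH⟩, rfl⟩) (by
        rw [hU₀, hc, hd]
        exact Nat.Coprime.pow _ _ ((Nat.coprime_primes hq Nat.prime_two).2 hq2)) (u : G)
        ⟨u, ⟨⟨u, huγ⟩, hU (mem_zpowers _), rfl⟩, rfl⟩
      exact mem_centralizer_singleton_iff.2 (h1.map π).eq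
    -- contradiction
    set c := π z₀ ^ 2 ^ n with hc
    have h1 : t * c * t⁻¹ = c := by rw [← mem_centralizer_singleton_iff.1 hcomm, mul_inv_cancel_right]
    have h2 : t * c * t⁻¹ = c⁻¹ := by rw [hc, ← conj_pow, hzt, inv_pow]
    have h3 : (π z₀) ^ 2 ^ (n + 1) = 1 := by
      rw [pow_succ, pow_mul, pow_two]
      rw [h1] at h2
      rw [mul_eq_one_iff_eq_inv]
      exact h2
    exact hz1 (orderOf_eq_one_iff.1 (Nat.eq_one_of_dvd_one
      ((Nat.Coprime.pow_right (n + 1) hzo.coprime_two_right) ▸ Nat.dvd_gcd dvd_rfl (orderOf_dvd_of_pow_eq_one h3))))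

end Cfsg.Agent.CommValue
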