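import Cfsg.Agent.Lib.CommValue.ValGen
import Cfsg.Agent.Lib.PGroup.Basic

/-!
# Soluble groups in which values centralize coprime subgroups

`isNilpotent_lcs_of_solvable`.
-/

set_option autoImplicit false

open scoped commutatorElement Pointwise
open Subgroup

namespace Cfsg.Agent.CommValue

universe u

/-- A non-trivial soluble finite group has an abelian minimal normal subgroup of prime exponent. -/
theorem exists_minimal_normal (Q : Type u) [Group Q] [Finite Q] [Group.IsSolvable Q] [Nontrivial Q] :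
    ∃ V : Subgroup Q, ∃ r : ℕ, r.Prime ∧ V.Normal ∧ V ≠ ⊥ ∧ (∀ a ∈ V, ∀ b ∈ V, a * b = b * a) ∧
      (∀ a ∈ V, a ^ r = 1) ∧ ∀ W : Subgroup Q, W.Normal → W ≤ V → W = ⊥ ∨ W = V := by
  obtain ⟨V, -, hV⟩ := exists_minimal_le_of_wellFoundedLT
    (fun V : Subgroup Q => V.Normal ∧ V ≠ ⊥) ⊤ ⟨inferInstance, top_ne_bot⟩
  obtain ⟨hVn, hVne⟩ := hV.prop
  have hmin : ∀ W : Subgroup Q, W.Normal → W ≤ V → W = ⊥ ∨ W = V := fun W hW hle =>
    or_iff_not_imp_left.2 fun hne => le_antisymm hle (hV.le_of_le ⟨hW, hne⟩ hle)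
  have hab : ⁅V, V⁆ = ⊥ := by
    refine ((hmin ⁅V, V⁆ inferInstance (commutator_le_self V)).resolve_right fun e => ?_)
    have : Nontrivial V := (nontrivial_iff_ne_bot V).2 hVne
    have h1 : _root_.commutator V < ⊤ := IsSolvable.commutator_lt_top_of_nontrivial V
    refine h1.ne ((map_injective V.subtype_injective) ?_)
    rw [← MonoidHom.range_eq_map, range_subtype, map_subtype_commutator, e]
  have habel : ∀ a ∈ V, ∀ b ∈ V, a * b = b * a := fun a ha b hb => by
    rw [← commutatorElement_eq_one_iff_mul_comm, ← mem_bot, ← hab]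
    exact commutator_mem_commutator ha hb
  have : Nontrivial V := (nontrivial_iff_ne_bot V).2 hVne
  obtain ⟨r, hr, hrd⟩ := Nat.exists_prime_and_dvd (show Nat.card V ≠ 1 from Finite.one_lt_card.ne')
  have := Fact.mk hr
  let W : Subgroup Q :=
    { carrier := {a | a ∈ V ∧ a ^ r = 1}
      one_mem' := ⟨one_mem _, one_pow _⟩
      mul_mem' := fun {a b} ha hb => ⟨mul_mem ha.1 hb.1, by
        rw [(show Commute a b from habel a ha.1 b hb.1).mul_pow, ha.2, hb.2, one_mul]⟩
      inv_mem' := fun {a} ha => ⟨inv_mem ha.1, by rw [inv_pow, ha.2, inv_one]⟩ }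
  have hWn : W.Normal := ⟨fun a ha g => ⟨hVn.conj_mem a ha.1 g, by rw [conj_pow, ha.2, mul_one, mul_inv_cancel]⟩⟩
  have hW : W = V := by
    refine (hmin W hWn fun a ha => ha.1).resolve_left fun e => ?_
    obtain ⟨z, hz⟩ := exists_prime_orderOf_dvd_card' (G := V) r hrd
    have hzW : (z : Q) ∈ W := ⟨z.2, by
      have := pow_orderOf_eq_one (z : Q); rwa [orderOf_coe, hz] at this⟩
    rw [e, mem_bot] at hzW
    rw [← orderOf_coe, hzW, orderOf_one] at hz
    exact hr.ne_one hz.symm
  exact ⟨V, r, hr, hVn, hVne, habel, fun a ha => (hW.ge ha).2, hmin⟩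

/-- Soluble groups with the property have a nilpotent term of the lower central series. -/
theorem isNilpotent_lcs_of_solvable (n : ℕ) : ∀ (m : ℕ) (G : Type u) [Group G] [Finite G],
    Nat.card G = m → Group.IsSolvable G → Coprimely n G →
      Group.IsNilpotent ((⊤ : Subgroup G).lowerCentralSeries n) := by
  intro m
  induction m using Nat.strong_induction_on with
  | _ m ih =>
    intro G _ _ hm hsol hco
    by_contra hbad
    -- a maximal bad quotient
    obtain ⟨N, -, hN⟩ := Finite.exists_le_maximal (α := Subgroup G)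
      (p := fun N => ∃ _ : N.Normal, ¬ Group.IsNilpotent ((⊤ : Subgroup (G ⧸ N)).lowerCentralSeries n))
      (a := ⊥) ⟨inferInstance, fun h => hbad (by
        have h1 := nilpotent_map (QuotientGroup.quotientBot (G := G)).toMonoidHom h
        rwa [map_lcs (QuotientGroup.quotientBot (G := G)).toMonoidHom (QuotientGroup.quotientBot (G := G)).surjective] at h1)⟩
    obtain ⟨hNn, hNbad⟩ := hN.prop
    set π := QuotientGroup.mk' N with hπ
    have hπs : Function.Surjective π := QuotientGroup.mk'_surjective N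
    set Q := G ⧸ N
    set Γ := (⊤ : Subgroup Q).lowerCentralSeries n with hΓ
    have hquot : ∀ W : Subgroup Q, ∀ [W.Normal], W ≠ ⊥ → Group.IsNilpotent (Γ.map (QuotientGroup.mk' W)) := by
      intro W _ hW
      by_contra hbadW
      have hlt : N < W.comap π := by
        refine lt_of_le_of_ne (fun z hz => ?_) fun e => hW ?_
        · show π z ∈ W
          rw [show π z = 1 from (QuotientGroup.eq_one_iff z).2 hz]; exact one_mem _
        · rw [← map_comap_eq_self_of_surjective hπs W, ← e, hπ, QuotientGroup.map_mk'_self]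
      refine hN.not_gt ⟨inferInstance, fun h => hbadW ?_⟩ hlt
      let f : G ⧸ W.comap π →* Q ⧸ W := QuotientGroup.lift _ ((QuotientGroup.mk' W).comp π) fun z hz =>
        (QuotientGroup.eq_one_iff (π z)).2 hz
      have hf : Function.Surjective f := by
        intro y
        obtain ⟨y, rfl⟩ := QuotientGroup.mk'_surjective W y
        obtain ⟨g, rfl⟩ := hπs y
        exact ⟨(g : G ⧸ W.comap π), rfl⟩
      have h1 := nilpotent_map f h
      rw [map_lcs f hf] at h1
      rwa [hΓ, map_lcs _ (QuotientGroup.mk'_surjective W)]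
    have : Nontrivial Q := by
      by_contra hh
      rw [not_nontrivial_iff_subsingleton] at hh
      exact hNbad (IsPGroup.isNilpotent (p := 2) (hp := ⟨Nat.prime_two⟩) (IsPGroup.of_card (n := 0) (by simp)))
    have hQsol : Group.IsSolvable Q := Group.isSolvable_of_surjective hπs
    obtain ⟨V, r, hr, hVn, hVne, hVab, hVexp, hVmin⟩ := exists_minimal_normal Q
    have := Fact.mk hr
    -- uniqueness of the minimal normal subgroup
    have huniq : ∀ W : Subgroup Q, W.Normal → W ⊓ V = ⊥ → W = ⊥ := by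
      intro W hWn hWV
      by_contra hW
      have h1 : Group.IsNilpotent (Γ.map (QuotientGroup.mk' W)) := hquot W hW
      have h2 : Group.IsNilpotent (Γ.map (QuotientGroup.mk' V)) := hquot V hVne
      let f : Γ →* Γ.map (QuotientGroup.mk' W) × Γ.map (QuotientGroup.mk' V) :=
        ((QuotientGroup.mk' W).subgroupMap Γ).prod ((QuotientGroup.mk' V).subgroupMap Γ)
      refine hNbad (nilpotent_of_injective f ((injective_iff_map_eq_one f).2 fun z hz => ?_))
      have h3 : (z : Q) ∈ W ⊓ V :=
        ⟨(QuotientGroup.eq_one_iff _).1 (congrArg (fun t => (t.1 : Q ⧸ W)) hz),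
          (QuotientGroup.eq_one_iff _).1 (congrArg (fun t => (t.2 : Q ⧸ V)) hz)⟩
      rw [hWV, mem_bot] at h3
      exact Subtype.ext h3
    -- `V` is not in the Frattini subgroup
    obtain ⟨P₀, hP₀, hVP₀⟩ : ∃ P₀ : Subgroup Q, IsCoatom P₀ ∧ ¬ V ≤ P₀ := by
      by_contra hno
      push Not at hno
      refine hNbad (nilpotent_mono (le_sup_left : Γ ≤ Γ ⊔ V) ?_)
      refine nilpotent_of_map_frattini (N := V) (le_iInf₂ fun M hM => hno M hM) ?_
      rw [Subgroup.map_sup, QuotientGroup.map_mk'_self, sup_bot_eq]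
      exact hquot V hVne
    have hPV : P₀ ⊔ V = ⊤ := hP₀.2 _ (left_lt_sup.2 hVP₀)
    have hdisj : P₀ ⊓ V = ⊥ := by
      refine (hVmin _ ?_ inf_le_right).resolve_right fun e => hVP₀ (e ▸ inf_le_left)
      refine normalizer_eq_top_iff.1 (eq_top_iff.2 (hPV ▸ sup_le ?_ ?_))
      · intro g hg
        rw [mem_normalizer_iff]
        intro z
        refine ⟨fun hz => ⟨P₀.mul_mem (P₀.mul_mem hg hz.1) (P₀.inv_mem hg), hVn.conj_mem _ hz.2 g⟩, fun hz => ⟨?_, ?_⟩⟩
        · simpa [mul_assoc] using P₀.mul_mem (P₀.mul_mem (P₀.inv_mem hg) hz.1) hg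
        · simpa [mul_assoc] using hVn.conj_mem _ hz.2 g⁻¹
      · intro g hg
        rw [mem_normalizer_iff]
        intro z
        constructor
        · intro hz
          rw [hVab g hg z hz.2, mul_inv_cancel_right]; exact hz
        · intro hz
          have hzV : z ∈ V := by simpa [mul_assoc] using hVn.conj_mem _ hz.2 g⁻¹
          rwa [hVab g hg z hzV, mul_inv_cancel_right] at hz
    -- `P₀` acts faithfully
    have hfaith : ∀ z ∈ P₀, (∀ v ∈ V, z * v = v * z) → z = 1 := by
      intro z hz hzv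
      have hC : (P₀ ⊓ centralizer (V : Set Q)).Normal := by
        refine normalizer_eq_top_iff.1 (eq_top_iff.2 (hPV ▸ sup_le ?_ ?_))
        · intro g hg
          rw [mem_normalizer_iff]
          intro z
          have hcn : (centralizer (V : Set Q)).Normal := inferInstance
          refine ⟨fun hz => ⟨P₀.mul_mem (P₀.mul_mem hg hz.1) (P₀.inv_mem hg), hcn.conj_mem _ hz.2 g⟩, fun hz => ⟨?_, ?_⟩⟩
          · simpa [mul_assoc] using P₀.mul_mem (P₀.mul_mem (P₀.inv_mem hg) hz.1) hg
          · simpa [mul_assoc] using hcn.conj_mem _ hz.2 g⁻¹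
        · intro g hg
          rw [mem_normalizer_iff]
          intro z
          have hcn : (centralizer (V : Set Q)).Normal := inferInstance
          constructor
          · intro hz
            have h1 := mem_centralizer_iff.1 hz.2 g hg
            rwa [h1, mul_inv_cancel_right]
          · intro hz
            have h2 : z ∈ centralizer (V : Set Q) := by simpa [mul_assoc] using hcn.conj_mem _ hz.2 g⁻¹
            have h1 := mem_centralizer_iff.1 h2 g hg
            rwa [h1, mul_inv_cancel_right] at hz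
      have h1 := huniq _ hC (eq_bot_iff.2 fun w hw => hdisj ▸ (⟨hw.1.1, hw.2⟩ : w ∈ P₀ ⊓ V))
      exact mem_bot.1 (h1 ▸ (⟨hz, mem_centralizer_iff.2 fun v hv => (hzv v hv).symm⟩ :
        z ∈ P₀ ⊓ centralizer (V : Set Q)))
    -- the lift `H`
    set W := V.comap π with hW
    set P₁ := P₀.comap π with hP₁
    obtain ⟨S⟩ : Nonempty (Sylow r W) := inferInstance
    set S₀ : Subgroup G := (S : Subgroup W).map W.subtype with hS₀
    have hS₀r : IsPGroup r S₀ := S.2.map _
    have hS₀V : S₀.map π = V := by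
      refine le_antisymm ?_ ?_
      · rintro _ ⟨_, ⟨s, hs, rfl⟩, rfl⟩
        exact s.2
      · have hVp : IsPGroup r V := fun v => ⟨1, Subtype.ext (by simpa using hVexp v v.2)⟩
        let φ : W →* V := (π.comp W.subtype).codRestrict V fun s => s.2
        have hφ : Function.Surjective φ := by
          rintro ⟨v, hv⟩
          obtain ⟨g, rfl⟩ := hπs v
          exact ⟨⟨g, hv⟩, rfl⟩
        have h1 := ((S.mapSurjective hφ).is_maximal' (Q := (⊤ : Subgroup V))
          (fun v => ⟨1, Subtype.ext (Subtype.ext (by simpa using hVexp _ v.1.2))⟩) le_top)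
        intro v hv
        obtain ⟨s, hs, he⟩ := h1.le (mem_top (⟨v, hv⟩ : V))
        exact ⟨s, ⟨s, hs, rfl⟩, congrArg Subtype.val he⟩
    set H := normalizer (S₀ : Set G) ⊓ P₁ with hH
    have hHP : ∀ h : H, π h ∈ P₀ := fun h => h.2.2
    let ρ : H →* P₀ := (π.comp H.subtype).codRestrict P₀ hHP
    have hρ : Function.Surjective ρ := by
      rintro ⟨y, hy⟩
      obtain ⟨g, rfl⟩ := hπs y
      have hNW : N ≤ W := fun z hz => by
        show π z ∈ V
        rw [show π z = 1 from (QuotientGroup.eq_one_iff z).2 hz]; exact one_mem _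
      have hWn : W.Normal := hVn.comap π
      obtain ⟨k, hk, w, hw, rfl⟩ := mem_sup_of_normal_right.1
        ((Sylow.normalizer_sup_eq_top S).symm ▸ mem_top g : g ∈ normalizer (S₀ : Set G) ⊔ W)
      obtain ⟨s, hs, hsw⟩ := hS₀V.ge hw
      have hks : k * s ∈ normalizer (S₀ : Set G) := mul_mem hk (le_normalizer hs)
      refine ⟨⟨k * s, hks, ?_⟩, Subtype.ext ?_⟩
      · show π (k * s) ∈ P₀
        rw [map_mul, hsw, ← map_mul]; exact hy
      · show π (k * s) = π (k * w)
        rw [map_mul, hsw, ← map_mul]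
    have hHne : H ≠ ⊤ := fun e => hP₀.1 (eq_top_iff.2 fun y _ => by
      obtain ⟨g, rfl⟩ := hπs y
      exact (e ▸ mem_top g : g ∈ H).2)
    have hHlt : Nat.card H < m := by
      rw [← hm]
      exact lt_of_le_of_ne (Nat.le_of_dvd Nat.card_pos (card_subgroup_dvd_card H))
        (fun e => hHne (eq_top_of_card_eq _ e))
    have hHnil := ih _ hHlt H rfl inferInstance (hco.subgroup H)
    -- the image is trivial
    have htriv : ((⊤ : Subgroup H).lowerCentralSeries n).map ρ = ⊥ := by
      rw [eq_bot_iff, map_le_iff_le_comap]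
      refine (lcs_le_closure_primary n hHnil).trans ((closure_le _).2 ?_)
      rintro z ⟨hz, p, k, hp, hk⟩
      rw [SetLike.mem_coe, mem_comap, mem_bot]
      by_cases hpr : p = r
      · subst hpr
        set γ := (⊤ : Subgroup H).lowerCentralSeries n
        have hzγ : z ∈ γ := val_mem_lcs hz
        obtain ⟨U, hU⟩ := (IsPGroup.of_card (p := p) (G := zpowers (⟨z, hzγ⟩ : γ)) (n := k)
          (by rw [Nat.card_zpowers, Subgroup.orderOf_mk, hk])).exists_le_sylow
        set T := ((U : Subgroup γ).map γ.subtype).map ρ with hT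
        have hTn : T.Normal := (sylow_normal_of_nilpotent hHnil U).map ρ hρ
        set T₀ : Subgroup Q := T.map P₀.subtype with hT₀
        have hT₀p : IsPGroup p T₀ := ((U.2.map γ.subtype).map ρ).map _
        -- fixed points of `T₀` on `V`
        set F := V ⊓ centralizer (T₀ : Set Q) with hF
        have hT₀n : ∀ g ∈ P₀, ∀ t ∈ T₀, g * t * g⁻¹ ∈ T₀ := by
          rintro g hg _ ⟨t, ht, rfl⟩
          exact ⟨_, hTn.conj_mem t ht ⟨g, hg⟩, rfl⟩
        have hFn : F.Normal := by
          refine normalizer_eq_top_iff.1 (eq_top_iff.2 (hPV ▸ sup_le ?_ ?_))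
          · intro g hg
            rw [mem_normalizer_iff]
            intro v
            have key : ∀ g ∈ P₀, ∀ v ∈ F, g * v * g⁻¹ ∈ F := fun g hg v hv =>
              ⟨hVn.conj_mem v hv.1 g, mem_centralizer_iff.2 fun t ht => by
                have h1 := mem_centralizer_iff.1 hv.2 _ (hT₀n g⁻¹ (inv_mem hg) t ht)
                calc t * (g * v * g⁻¹) = g * ((g⁻¹ * t * g⁻¹⁻¹) * v) * g⁻¹ := by group
                  _ = g * (v * (g⁻¹ * t * g⁻¹⁻¹)) * g⁻¹ := by rw [h1]
                  _ = _ := by group⟩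
            refine ⟨key g hg v, fun hv => ?_⟩
            simpa [mul_assoc] using key g⁻¹ (inv_mem hg) _ hv
          · intro g hg
            rw [mem_normalizer_iff]
            intro v
            constructor
            · intro hv
              rw [hVab g hg v hv.1, mul_inv_cancel_right]; exact hv
            · intro hv
              have hvV : v ∈ V := by simpa [mul_assoc] using hVn.conj_mem _ hv.1 g⁻¹
              rwa [hVab g hg v hvV, mul_inv_cancel_right] at hv
        have hFne : F ≠ ⊥ := by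
          have hVp : IsPGroup p V := fun v => ⟨1, Subtype.ext (by simpa using hVexp v v.2)⟩
          have hVT : IsPGroup p (T₀ ⊔ V : Subgroup Q) := hT₀p.to_sup_of_normal_right hVp
          have hne : V.subgroupOf (T₀ ⊔ V) ≠ ⊥ := fun e => hVne (by
            rw [← inf_eq_left.2 (le_sup_right : V ≤ T₀ ⊔ V), ← subgroupOf_map_subtype, e, Subgroup.map_bot])
          obtain ⟨⟨c, hc⟩, hc1⟩ := ne_bot_iff_exists_ne_one.1
            (PGroup.inf_center_ne_bot hVT (N := V.subgroupOf (T₀ ⊔ V)) hne)
          refine (ne_bot_iff_exists_ne_one).2 ⟨⟨(c : Q), hc.1, mem_centralizer_iff.2 fun t ht => ?_⟩, fun e => ?_⟩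
          · exact congrArg Subtype.val (mem_center_iff.1 hc.2 ⟨t, mem_sup_left ht⟩)
          · exact hc1 (Subtype.ext (Subtype.ext (by simpa using congrArg Subtype.val e)))
        have hFV : F = V := (hVmin F hFn inf_le_left).resolve_left hFne
        refine Subtype.ext (hfaith _ (ρ z).2 fun v hv => ?_)
        exact mem_centralizer_iff.1 (hFV.ge hv).2 _ ⟨ρ z, ⟨z, ⟨⟨z, hzγ⟩, hU (mem_zpowers _), rfl⟩, rfl⟩, rfl⟩
      · refine Subtype.ext (hfaith _ (ρ z).2 fun v hv => ?_)
        obtain ⟨s, hs, rfl⟩ := hS₀V.ge hv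
        have hcop : (Nat.card S₀).Coprime (orderOf (z : G)) := by
          obtain ⟨c, hc⟩ := IsPGroup.iff_card.1 hS₀r
          rw [hc, orderOf_coe, hk]
          exact Nat.Coprime.pow _ _ ((Nat.coprime_primes hr hp).2 (Ne.symm hpr))
        have h1 := hco (z : G) hz.coe S₀ (fun q hq => (mem_normalizer_iff.1 z.2.1 q).1 hq) hcop s hs
        show π z * π s = π s * π z
        rw [← map_mul, ← map_mul, h1.eq]
    rw [map_lcs ρ hρ] at htriv
    -- `Γ ≤ V`
    have hΓV : Γ ≤ V := by
      intro g hg
      rw [← QuotientGroup.eq_one_iff]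
      have hf : Function.Surjective ((QuotientGroup.mk' V).comp P₀.subtype) := by
        intro y
        obtain ⟨y, rfl⟩ := QuotientGroup.mk'_surjective V y
        obtain ⟨a, ha, v, hv, rfl⟩ := mem_sup_of_normal_right.1 (hPV.symm ▸ mem_top y : y ∈ P₀ ⊔ V)
        refine ⟨⟨a, ha⟩, ?_⟩
        show QuotientGroup.mk' V a = QuotientGroup.mk' V (a * v)
        rw [map_mul, show QuotientGroup.mk' V v = 1 from (QuotientGroup.eq_one_iff v).2 hv, mul_one]
      have h1 : Γ.map (QuotientGroup.mk' V) = ⊥ := by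
        rw [hΓ, map_lcs _ (QuotientGroup.mk'_surjective V), ← map_lcs _ hf, htriv, Subgroup.map_bot]
      exact mem_bot.1 (h1 ▸ (⟨g, hg, rfl⟩ : (g : Q ⧸ V) ∈ Γ.map (QuotientGroup.mk' V)))
    exact hNbad (IsPGroup.isNilpotent (p := r)
      (fun g => ⟨1, Subtype.ext (by simpa using hVexp g (hΓV g.2))⟩))

end Cfsg.Agent.CommValue
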