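import Cfsg.Agent.Lib.CommValue.Basic
import Cfsg.Agent.Lib.NilGroup.Basic
import Cfsg.Agent.Lib.Transfer.Criteria

/-!
# Primary values generate a nilpotent term of the lower central series

* `nilpotent_of_map_frattini`: nilpotency lifts over a normal subgroup inside the Frattini subgroup.
* `exists_primary_map`: a nilpotent group is generated by the images of its projections on primary parts.
* `lcs_le_closure_primary`.
-/

set_option autoImplicit false

open scoped commutatorElement Pointwise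
open Subgroup

namespace Cfsg.Agent.CommValue

universe u

variable {G : Type u} [Group G]

theorem nilpotent_of_injective {K : Type*} [Group K] [Group.IsNilpotent K] (f : G →* K)
    (hf : Function.Injective f) : Group.IsNilpotent G :=
  Group.nilpotent_of_surjective (MonoidHom.ofInjective hf).symm.toMonoidHom
    (MonoidHom.ofInjective hf).symm.surjective

theorem nilpotent_mono {H K : Subgroup G} (hle : H ≤ K) (hK : Group.IsNilpotent K) : Group.IsNilpotent H :=
  nilpotent_of_injective (inclusion hle) (inclusion_injective hle)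

theorem nilpotent_map {K : Type*} [Group K] (f : G →* K) {H : Subgroup G} (hH : Group.IsNilpotent H) :
    Group.IsNilpotent (H.map f) :=
  Group.nilpotent_of_surjective (f.subgroupMap H) (f.subgroupMap_surjective H)

variable [Finite G]

/-- The Sylow subgroups of a normal subgroup which are normal in it are normal in the whole group. -/
theorem sylow_normal_of_nilpotent {H : Subgroup G} [H.Normal] (hH : Group.IsNilpotent H) {p : ℕ} [Fact p.Prime]
    (P : Sylow p H) : ((P : Subgroup H).map H.subtype).Normal := by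
  have : (P : Subgroup H).Normal := inferInstance
  have := P.characteristic_of_normal this
  exact normal_of_characteristic_subgroupOf_normal (P : Subgroup H)
where
  normal_of_characteristic_subgroupOf_normal (K : Subgroup H) [K.Characteristic] : (K.map H.subtype).Normal :=
    inferInstance

theorem nilpotent_of_map_frattini {N : Subgroup G} [N.Normal] (hN : N ≤ frattini G) {K : Subgroup G}
    [K.Normal] (hK : Group.IsNilpotent (K.map (QuotientGroup.mk' N))) : Group.IsNilpotent K := by
  refine ((Group.isNilpotent_of_finite_tfae (G := K)).out 0 3 rfl rfl).2 fun p hp P => ?_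
  set π := QuotientGroup.mk' N with hπ
  have : (K.map π).Normal := (inferInstance : K.Normal).map π (QuotientGroup.mk'_surjective N)
  let P' : Sylow p (K.map π) := P.mapSurjective (f := π.subgroupMap K) (π.subgroupMap_surjective K)
  set T := ((P' : Subgroup (K.map π)).map (K.map π).subtype).comap π with hT
  have hTn : T.Normal := (sylow_normal_of_nilpotent hK P').comap π
  set S : Subgroup G := (P : Subgroup K).map K.subtype with hS
  have hST : S ≤ T := by
    rintro _ ⟨x, hx, rfl⟩
    exact ⟨π.subgroupMap K x, ⟨x, hx, rfl⟩, rfl⟩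
  have hTS : T ≤ S ⊔ N := by
    intro t ht
    obtain ⟨_, ⟨x, hx, rfl⟩, hxt⟩ := ht
    have h1 : (x : G)⁻¹ * t ∈ N := by
      rw [← QuotientGroup.eq]; exact hxt
    simpa using mul_mem (mem_sup_left ⟨x, hx, rfl⟩ : (x : G) ∈ S ⊔ N) (mem_sup_right h1)
  set T₁ := T ⊓ K with hT₁
  have hST₁ : S ≤ T₁ := le_inf hST (map_subtype_le _)
  have hP₁ : ∀ (Q : Sylow p T₁), (Q : Subgroup T₁) = S.subgroupOf T₁ → normalizer (S : Set G) ⊔ T₁ = ⊤ := by
    intro Q hQ
    have := Sylow.normalizer_sup_eq_top Q
    rwa [hQ, subgroupOf_map_subtype, inf_eq_left.2 hST₁] at this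
  have hp1 : IsPGroup p (S.subgroupOf T₁) := (P.2.map K.subtype).comap_subtype
  have hidx : ¬ p ∣ (S.subgroupOf T₁).index := fun hd => P.not_dvd_index (hd.trans (by
    have h1 : (S.subgroupOf T₁).index ∣ S.relIndex K := by
      rw [← relIndex_mul_relIndex S T₁ K hST₁ inf_le_right]
      exact dvd_mul_right _ _
    have h2 : S.relIndex K = (P : Subgroup K).index := by
      rw [hS, relIndex, subgroupOf, comap_map_eq_self_of_injective K.subtype_injective]
    exact h2 ▸ h1))
  have h1 := hP₁ (hp1.toSylow hidx) rfl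
  have htop : normalizer (S : Set G) = ⊤ := by
    refine frattini_nongenerating (eq_top_iff.2 (h1 ▸ sup_le le_sup_left ?_))
    exact (inf_le_left : T₁ ≤ T).trans (hTS.trans (sup_le (le_normalizer.trans le_sup_left) (hN.trans le_sup_right)))
  refine ⟨fun x hx g => ?_⟩
  have hg : (g : G) ∈ normalizer (S : Set G) := htop ▸ mem_top _
  obtain ⟨y, hy, he⟩ := (mem_normalizer_iff.1 hg (x : G)).1 ⟨x, hx, rfl⟩
  have : g * x * g⁻¹ = y := Subtype.ext he.symm
  exact this ▸ hy

/-- An element of prime power order in an image has a preimage of prime power order among the powers. -/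
theorem exists_primary_lift {K : Type*} [Group K] (f : G →* K) {p k : ℕ} (hp : p.Prime) {x : G}
    (h : orderOf (f x) = p ^ k) : ∃ i : ℕ, f (x ^ i) = f x ∧ ∃ j, orderOf (x ^ i) = p ^ j := by
  obtain ⟨a, m, hm, ham⟩ := Nat.exists_eq_pow_mul_and_not_dvd (orderOf_pos x).ne' p hp.ne_one
  obtain ⟨b, hb⟩ := Nat.chineseRemainder (Nat.Coprime.pow_left (k + a) ((hp.coprime_iff_not_dvd).2 hm)) 1 0
  refine ⟨b, ?_, ?_⟩
  · rw [map_pow]
    conv_rhs => rw [← pow_one (f x)]
    exact pow_eq_pow_iff_modEq.2 (h ▸ hb.1.of_dvd (pow_dvd_pow p (Nat.le_add_right k a)))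
  · obtain ⟨c, hc⟩ := Nat.modEq_zero_iff_dvd.1 hb.2
    have h1 : (x ^ b) ^ p ^ a = 1 := by
      rw [← pow_mul, hc, show m * c * p ^ a = p ^ a * m * c by ring, ← ham, pow_mul, pow_orderOf_eq_one, one_pow]
    obtain ⟨j, -, hj⟩ := (Nat.dvd_prime_pow hp).1 (orderOf_dvd_of_pow_eq_one h1)
    exact ⟨j, hj⟩

/-- A finite nilpotent group is generated by images of each element under primary projections. -/
theorem mem_closure_projections (hG : Group.IsNilpotent G) (x : G) :
    x ∈ closure {y : G | ∃ p k : ℕ, p.Prime ∧ orderOf y = p ^ k ∧ ∃ f : G →* G, f x = y} := by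
  classical
  obtain ⟨e⟩ := ((Group.isNilpotent_of_finite_tfae (G := G)).out 0 4 rfl rfl).1 hG
  set S := closure {y : G | ∃ p k : ℕ, p.Prime ∧ orderOf y = p ^ k ∧ ∃ f : G →* G, f x = y}
  have h : e.symm x ∈ S.comap e.toMonoidHom := by
    refine Subgroup.pi_mem_of_mulSingle_mem _ fun q => subset_closure ?_
    have hq := Nat.prime_of_mem_primeFactors q.2
    haveI : Fact (q : ℕ).Prime := ⟨hq⟩
    let f : G →* G :=
      e.toMonoidHom.comp ((MonoidHom.mulSingle (fun q : (Nat.card G).primeFactors => ∀ P : Sylow q G, (P : Subgroup G)) q).comp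
        ((Pi.evalMonoidHom (fun q : (Nat.card G).primeFactors => ∀ P : Sylow q G, (P : Subgroup G)) q).comp
          e.symm.toMonoidHom))
    have hP : ∀ P : Sylow q G, ∃ k : ℕ, (e.symm x q P) ^ (q : ℕ) ^ k = 1 := fun P => P.2 _
    choose k hk using hP
    have := Fintype.ofFinite (Sylow q G)
    have h1 : (f x) ^ (q : ℕ) ^ (∑ P, k P) = 1 := by
      have h2 : (e.symm x q) ^ (q : ℕ) ^ (∑ P, k P) = 1 := by
        funext P
        rw [Pi.pow_apply, Pi.one_apply]
        obtain ⟨c, hc⟩ := pow_dvd_pow (q : ℕ) (Finset.single_le_sum (f := k) (fun i _ => Nat.zero_le _) (Finset.mem_univ P))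
        rw [hc, pow_mul, hk, one_pow]
      show (e (Pi.mulSingle q (e.symm x q))) ^ (q : ℕ) ^ (∑ P, k P) = 1
      rw [← map_pow, ← Pi.mulSingle_pow, h2, Pi.mulSingle_one, map_one]
    obtain ⟨j, -, hj⟩ := (Nat.dvd_prime_pow hq).1 (orderOf_dvd_of_pow_eq_one h1)
    exact ⟨q, j, hq, hj, f, rfl⟩
  simpa using h

/-- The primary values generate a nilpotent term of the lower central series. -/
theorem lcs_le_closure_primary (n : ℕ) (hγ : Group.IsNilpotent ((⊤ : Subgroup G).lowerCentralSeries n)) :
    (⊤ : Subgroup G).lowerCentralSeries n ≤ closure {x : G | Val n x ∧ ∃ p k : ℕ, p.Prime ∧ orderOf x = p ^ k} := by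
  set γ := (⊤ : Subgroup G).lowerCentralSeries n with hγdef
  set E := closure {x : G | Val n x ∧ ∃ p k : ℕ, p.Prime ∧ orderOf x = p ^ k} with hE
  have hEn : E.Normal := by
    refine ⟨fun w hw g => ?_⟩
    have h1 : E ≤ E.comap (MulAut.conj g).toMonoidHom := (closure_le _).2 fun x ⟨hx, p, k, hp, hk⟩ =>
      subset_closure ⟨hx.conj g, p, k, hp, by rw [← hk]; exact (MulAut.conj g).orderOf_eq x⟩
    exact h1 hw
  set π := QuotientGroup.mk' E with hπ
  have hsurj : Function.Surjective π := QuotientGroup.mk'_surjective E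
  -- commutation in the quotient
  have hcomm : ∀ (p q : ℕ), p.Prime → q.Prime → p ≠ q → ∀ u ∈ γ.map π, ∀ a : G ⧸ E,
      (∃ k, orderOf u = p ^ k) → (∃ k, orderOf a = q ^ k) → Commute u a := by
    rintro p q hp hq hpq _ ⟨u, hu, rfl⟩ a ⟨k, hk⟩ ⟨l, hl⟩
    obtain ⟨a, rfl⟩ := hsurj a
    obtain ⟨i, hi, k', hk'⟩ := exists_primary_lift π hp hk
    obtain ⟨j, hj, l', hl'⟩ := exists_primary_lift π hq hl
    rw [← hi, ← hj]
    have := Fact.mk hp
    obtain ⟨U, hU⟩ := (IsPGroup.of_card (p := p) (G := zpowers (⟨u ^ i, γ.pow_mem hu i⟩ : γ)) (n := k')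
      (by rw [Nat.card_zpowers, Subgroup.orderOf_mk, hk'])).exists_le_sylow
    set V : Subgroup G := (U : Subgroup γ).map γ.subtype with hV
    have hVn : V.Normal := sylow_normal_of_nilpotent hγ U
    have hu' : u ^ i ∈ V := ⟨_, hU (mem_zpowers _), rfl⟩
    have hcop : (Nat.card (V.map π)).Coprime (orderOf (π (a ^ j))) := by
      obtain ⟨c, hc⟩ := IsPGroup.iff_card.1 ((U.2.map γ.subtype).map π)
      rw [hc, hj, hl]
      exact Nat.Coprime.pow _ _ ((Nat.coprime_primes hp hq).2 hpq)
    refine commute_of_itc (Q := V.map π) (fun v hv => ?_) hcop ⟨_, hu', rfl⟩ (n := n) ?_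
    · exact ((hVn.map π hsurj).conj_mem v hv _)
    · rw [← map_itc]
      refine (QuotientGroup.eq_one_iff _).2 (subset_closure ⟨val_itc n _ _, p, ?_⟩)
      obtain ⟨c, hc⟩ := IsPGroup.iff_orderOf.1 (U.2.map γ.subtype) ⟨_, itc_mem (fun v hv => hVn.conj_mem v hv _) hu' n⟩
      exact ⟨c, hp, by rw [← hc, Subgroup.orderOf_mk]⟩
  -- the quotient is nilpotent
  have hq : Group.IsNilpotent (G ⧸ E) := by
    refine ((Group.isNilpotent_of_finite_tfae (G := G ⧸ E)).out 0 3 rfl rfl).2 fun p hp Q => ?_
    set D := γ.map π with hD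
    have hDn : D.Normal := (inferInstance : γ.Normal).map π hsurj
    have hDnil : Group.IsNilpotent D := nilpotent_map π hγ
    have hquot : Group.IsNilpotent ((G ⧸ E) ⧸ D) := by
      have h0 : Group.IsNilpotent (⊤ : Subgroup ((G ⧸ E) ⧸ D)) := by
        refine (Subgroup.isNilpotent_iff_lowerCentralSeries _).2 ⟨n, ?_⟩
        rw [← map_lcs (QuotientGroup.mk' D) (QuotientGroup.mk'_surjective D), ← map_lcs π hsurj, ← hγdef, ← hD]
        exact QuotientGroup.map_mk'_self D
      exact nilpotent_of_injective (topEquiv (G := (G ⧸ E) ⧸ D)).symm.toMonoidHom (MulEquiv.injective _)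
    have hQD : ((Q : Subgroup (G ⧸ E)) ⊔ D).Normal := by
      let Q' : Sylow p ((G ⧸ E) ⧸ D) := Q.mapSurjective (QuotientGroup.mk'_surjective D)
      have hn : (Q' : Subgroup ((G ⧸ E) ⧸ D)).Normal := inferInstance
      have h1 := hn.comap (QuotientGroup.mk' D)
      rwa [show (Q' : Subgroup ((G ⧸ E) ⧸ D)) = (Q : Subgroup (G ⧸ E)).map (QuotientGroup.mk' D) from rfl,
        comap_map_eq, QuotientGroup.ker_mk'] at h1
    have hDN : D ≤ normalizer ((Q : Subgroup (G ⧸ E)) : Set (G ⧸ E)) := by
      intro d hd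
      refine Transfer.mem_of_forall_primePow fun r hr y hy ⟨k, hk⟩ => ?_
      have hyD : y ∈ D := zpowers_le.2 hd hy
      have := Fact.mk hr
      by_cases hrp : r = p
      · subst hrp
        refine le_normalizer ?_
        obtain ⟨W, hW⟩ := (IsPGroup.of_card (p := r) (G := zpowers (⟨y, hyD⟩ : D)) (n := k)
          (by rw [Nat.card_zpowers, Subgroup.orderOf_mk, hk])).exists_le_sylow
        have hWn : ((W : Subgroup D).map D.subtype).Normal := sylow_normal_of_nilpotent hDnil W
        obtain ⟨Q₂, hQ₂⟩ := (W.2.map D.subtype).exists_le_sylow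
        obtain ⟨t, ht⟩ := MulAction.exists_smul_eq (G ⧸ E) Q₂ Q
        rw [← ht]
        show y ∈ MulAut.conj t • (Q₂ : Subgroup (G ⧸ E))
        refine mem_pointwise_smul_iff_inv_smul_mem.2 ?_
        refine hQ₂ ?_
        rw [← map_inv, MulAut.smul_def, MulAut.conj_apply]
        exact hWn.conj_mem _ ⟨_, hW (mem_zpowers _), rfl⟩ _
      · rw [mem_normalizer_iff]
        intro z
        have hcz : ∀ w ∈ (Q : Subgroup (G ⧸ E)), y * w * y⁻¹ = w := by
          intro w hw
          obtain ⟨l, hl⟩ := IsPGroup.iff_orderOf.1 Q.2 ⟨w, hw⟩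
          rw [(hcomm r p hr hp.out hrp y hyD w ⟨k, hk⟩ ⟨l, by rw [← hl, Subgroup.orderOf_mk]⟩).eq,
            mul_inv_cancel_right]
        constructor
        · intro hz; rw [hcz z hz]; exact hz
        · intro hz
          have h1 := hcz _ hz
          have h2 : y * z * y⁻¹ = z := mul_left_cancel (mul_right_cancel h1)
          rwa [h2] at hz
    have hle : (Q : Subgroup (G ⧸ E)) ⊔ D ≤ normalizer ((Q : Subgroup (G ⧸ E)) : Set (G ⧸ E)) :=
      sup_le le_normalizer hDN
    have h2 := Sylow.normalizer_sup_eq_top (Q.subtype (le_sup_left : (Q : Subgroup (G ⧸ E)) ≤ (Q : Subgroup (G ⧸ E)) ⊔ D))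
    rw [Sylow.coe_subtype, subgroupOf_map_subtype, inf_eq_left.2 le_sup_left, sup_eq_left.2 hle] at h2
    exact normalizer_eq_top_iff.1 h2
  -- a minimal supplement
  obtain ⟨C, -, hC⟩ := exists_minimal_le_of_wellFoundedLT (fun C : Subgroup G => C ⊔ E = ⊤) ⊤ (by simp)
  have hsurjC : Function.Surjective (π.comp C.subtype) := by
    intro y
    obtain ⟨g, rfl⟩ := hsurj y
    obtain ⟨c, hc, e, he, rfl⟩ := mem_sup_of_normal_right.1 (hC.prop.symm ▸ mem_top g)
    refine ⟨⟨c, hc⟩, ?_⟩
    show π c = π (c * e)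
    rw [map_mul, show π e = 1 from (QuotientGroup.eq_one_iff e).2 he, mul_one]
  have hfr : E.subgroupOf C ≤ frattini C := by
    refine le_iInf₂ fun M hM => ?_
    by_contra hnot
    have h1 : M ⊔ E.subgroupOf C = ⊤ := hM.2 _ (left_lt_sup.2 hnot)
    have h2 : M.map C.subtype ⊔ E = ⊤ := by
      refine eq_top_iff.2 (hC.prop.symm ▸ sup_le ?_ le_sup_right)
      have h3 : C = (M ⊔ E.subgroupOf C).map C.subtype := by rw [h1, ← MonoidHom.range_eq_map, range_subtype]
      calc C ≤ (M ⊔ E.subgroupOf C).map C.subtype := h3.le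
        _ ≤ _ := by
          rw [Subgroup.map_sup, subgroupOf_map_subtype]
          exact sup_le le_sup_left (inf_le_left.trans le_sup_right)
    have h4 : C ≤ M.map C.subtype := hC.le_of_le h2 (map_subtype_le M)
    exact hM.1 (eq_top_iff.2 fun c _ => by
      obtain ⟨m, hm, he⟩ := h4 c.2
      exact Subtype.ext he ▸ hm)
  have hCnil : Group.IsNilpotent (⊤ : Subgroup C) := by
    refine nilpotent_of_map_frattini hfr ?_
    rw [← MonoidHom.range_eq_map, MonoidHom.range_eq_top.2 (QuotientGroup.mk'_surjective _)]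
    have h1 : (E.subgroupOf C) = (π.comp C.subtype).ker := by
      ext z
      rw [mem_subgroupOf, MonoidHom.mem_ker]
      exact (QuotientGroup.eq_one_iff (N := E) (z : G)).symm
    have h2 : Group.IsNilpotent (C ⧸ E.subgroupOf C) := by
      let ψ : C ⧸ E.subgroupOf C →* G ⧸ E := QuotientGroup.lift _ (π.comp C.subtype) h1.le
      refine nilpotent_of_injective ψ ((injective_iff_map_eq_one ψ).2 fun z hz => ?_)
      obtain ⟨z, rfl⟩ := QuotientGroup.mk_surjective z
      rw [QuotientGroup.eq_one_iff, h1]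
      exact hz
    exact nilpotent_of_injective (topEquiv (G := C ⧸ E.subgroupOf C)).toMonoidHom (MulEquiv.injective _)
  have hC' : Group.IsNilpotent C :=
    nilpotent_of_injective (topEquiv (G := C)).symm.toMonoidHom (MulEquiv.injective _)
  have hle : ((⊤ : Subgroup C).lowerCentralSeries n).map C.subtype ≤ E := by
    rw [← closure_val, MonoidHom.map_closure, closure_le]
    rintro _ ⟨x, hx, rfl⟩
    have h1 : x ∈ E.subgroupOf C := by
      refine (closure_le _).2 ?_ (mem_closure_projections hC' x)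
      rintro y ⟨p, k, hp, hk, f, rfl⟩
      exact subset_closure ⟨(hx.map f).coe, p, k, hp, by rw [Subgroup.coe_subtype, orderOf_coe, hk]⟩
    exact h1
  have h5 : γ.map π = ⊥ := by
    rw [hγdef, map_lcs π hsurj, ← map_lcs (π.comp C.subtype) hsurjC, ← map_map, eq_bot_iff]
    rintro _ ⟨z, hz, rfl⟩
    exact (QuotientGroup.eq_one_iff z).2 (hle hz)
  intro g hg
  exact (QuotientGroup.eq_one_iff g).1 ((mem_bot).1 (h5 ▸ (⟨g, hg, rfl⟩ : π g ∈ γ.map π)))

end Cfsg.Agent.CommValue
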